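import Mathlib
import Cfsg.Agent.Lib.GUEmbed.Basic

set_option autoImplicit false

/-! Two coordinates of `K` give two hyperbolic pairs over the subfield. -/

namespace Cfsg.Agent.Lib.GUEmbed

variable {K F : Type*} [Field K] [Fintype K] [Field F] [Fintype F] {q : ℕ} (ι : F →+* K)

/-- Constants identifying `(K ^ 2, norm + norm)` with two hyperbolic planes. -/
theorem exists_pairMap (hK : Fintype.card K = q ^ 2) (hF : Fintype.card F = q) :
    ∃ P : F → F → F → F → K × K,
      (∀ a b c d a' b' c' d', P (a + a') (b + b') (c + c') (d + d') = P a b c d + P a' b' c' d') ∧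
      (∀ s a b c d, P (s * a) (s * b) (s * c) (s * d) = ι s • P a b c d) ∧
      (∀ a b c d, P a b c d = 0 → a = 0 ∧ b = 0 ∧ c = 0 ∧ d = 0) ∧
      (∀ a b c d, ι (a * c + b * d)
        = (P a b c d).1 * (P a b c d).1 ^ q + (P a b c d).2 * (P a b c d).2 ^ q) := by
  obtain ⟨θ, hθ⟩ := exists_not_range (F := F) hK hF
  set s := Forms.qPowHom hK with hs
  have sp : ∀ x : K, x ^ q = s x := fun x => (Forms.qPowHom_apply hK x).symm
  have ss : ∀ x : K, s (s x) = x := Forms.qPowHom_qPowHom hK
  have sι : ∀ a : F, s (ι a) = ι a := fun a => by rw [← sp, map_pow_q ι hF]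
  obtain ⟨l, hl⟩ := Forms.exists_norm_eq (Forms.qPowHom_ne_id hK) ss (c := (-1 : K)) (by rw [map_neg, map_one])
  have hl0 : l ≠ 0 := by rintro rfl; simp at hl
  set d := θ - s θ with hd
  have hd0 : d ≠ 0 := sub_ne_zero.2 (fun h => hθ (by rw [sp]; exact h.symm))
  have hθ0 : θ ≠ 0 := by rintro rfl; exact hd0 (by simp [hd])
  set η := s θ / θ with hη
  set l' := η * l with hl'def
  have hl' : l' * s l' = -1 := by
    have : η * s η = 1 := by
      rw [hη, map_div₀, ss]
      have : s θ ≠ 0 := fun h => hθ0 (by rw [← ss θ, h, map_zero])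
      field_simp
    rw [hl'def, map_mul]
    linear_combination l * s l * this + hl
  have hne : l ≠ l' := by
    intro h
    refine hd0 ?_
    have h1 : η = 1 := mul_right_cancel₀ hl0 (by rw [one_mul, ← hl'def, ← h])
    rw [hη, div_eq_one_iff_eq hθ0] at h1
    rw [hd, h1, sub_self]
  set cc := 1 + l * s l' with hcc
  have hcc0 : cc ≠ 0 := by
    intro h
    refine hne ?_
    have hsl : s l' ≠ 0 := fun h0 => by rw [h0, mul_zero] at hl'; simp at hl'
    exact mul_right_cancel₀ hsl (by linear_combination h - hl')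
  set z₁ := -(s θ) / d with hz₁
  set z₂ := 1 / d with hz₂
  have sd : s d = -d := by rw [hd, map_sub, ss]; ring
  let X : F → F → K := fun a b => ι a + ι b * θ
  let Z : F → F → K := fun c e => ι c * z₁ + ι e * z₂
  let Y : F → F → K := fun c e => s (Z c e / cc)
  refine ⟨fun a b c e => (X a b + Y c e, l * X a b + l' * Y c e), ?_, ?_, ?_, ?_⟩
  · intro a b c e a' b' c' e'
    refine Prod.ext ?_ ?_ <;> simp only [X, Y, Z, map_add, Prod.fst_add, Prod.snd_add] <;>
      simp only [add_div, map_add, map_mul, add_mul, map_div₀] <;> ring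
  · intro t a b c e
    refine Prod.ext ?_ ?_ <;> simp only [X, Y, Z, map_mul, Prod.smul_fst, Prod.smul_snd, smul_eq_mul] <;>
      simp only [map_div₀, map_add, map_mul, sι] <;> ring
  · intro a b c e h
    simp only [Prod.mk_eq_zero] at h
    obtain ⟨h1, h2⟩ := h
    have hX : X a b = 0 := (mul_eq_zero.1 (show (l - l') * X a b = 0 by
      linear_combination h2 - l' * h1)).resolve_left (sub_ne_zero.2 hne)
    have hY : Z c e = 0 := by
      have h3 : Y c e = 0 := by linear_combination h1 - hX
      have := congrArg s h3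
      rw [map_zero] at this
      simp only [Y, ss, div_eq_zero_iff, hcc0, or_false] at this
      exact this
    obtain ⟨ha, hb⟩ := indep ι hF hθ hX
    have hc' : ι e + (-(ι c)) * s θ = 0 := by
      simp only [Z, hz₁, hz₂] at hY
      field_simp at hY
      linear_combination hY
    obtain ⟨he, hc⟩ := indep ι hF (a := e) (b := -c) (θ := s θ)
      (by rw [sp, ss]; exact fun h => hθ (by rw [sp]; exact h.symm)) (by rw [map_neg]; exact hc')
    exact ⟨ha, hb, neg_eq_zero.1 hc, he⟩
  · intro a b c e
    have key : X a b * Z c e + s (X a b * Z c e) = ι (a * c + b * e) := by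
      simp only [X, Z, hz₁, hz₂, map_add, map_mul, map_div₀, map_neg, map_one, sd, sι, ss]
      field_simp
      rw [hd]
      ring
    rw [sp, sp, ← key]
    have hcY : cc * s (Y c e) = Z c e := by
      simp only [Y, ss]; field_simp
    have hscY : s cc * Y c e = s (Z c e) := by rw [← hcY, map_mul, ss]
    simp only [map_add, map_mul]
    have hscc : s cc = 1 + s l * l' := by rw [hcc, map_add, map_one, map_mul, ss]
    linear_combination -(X a b * s (X a b)) * hl - (Y c e * s (Y c e)) * hl'
      - X a b * hcY - s (X a b) * hscY + X a b * s (Y c e) * hcc + s (X a b) * Y c e * hscc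

end Cfsg.Agent.Lib.GUEmbed
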